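import Groth.Agent.OmegaSh.K583.BaseChange
import Groth.Agent.OmegaSh.K583.Finite
import Groth.Agent.OmegaSh.K584.ConTrans
import Groth.Agent.Flat2H.FSHom
import Groth.Agent.Flat2H.FSSmoothHom
import Groth.Agent.Dcoh.PushFLF304
import Groth.Agent.S5975
import Mathlib.RingTheory.Smooth.Kaehler
import Mathlib.RingTheory.Kaehler.JacobiZariski

/-!
# Differentials of formally smooth morphisms: transitivity sequence and local freeness
-/

set_option autoImplicit false
universe u

open CategoryTheory AlgebraicGeometry Limits Opposite TopologicalSpace OmegaSh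
open scoped TensorProduct

namespace K561.OmegaSmooth

open K583.AlgUniv K583.UnivAffine K583.BaseChange Groth.Agent.CohqA.BaseChangeMod
  Groth.Agent.CohqA.PullbackQCoh

section Ring

variable {A B B' : Type u} [CommRing A] [CommRing B] [CommRing B'] [Algebra A B] [Algebra B B']
  [Algebra A B'] [IsScalarTower A B B']

theorem injective_mapBaseChange [Algebra.FormallySmooth B B'] :
    Function.Injective (KaehlerDifferential.mapBaseChange A B B') := by
  have h := Algebra.H1Cotangent.exact_δ_mapBaseChange A B B'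
  have hs : Subsingleton (Algebra.H1Cotangent B B') := inferInstance
  rw [injective_iff_map_eq_zero]
  intro x hx
  obtain ⟨y, rfl⟩ := (h x).mp hx
  rw [Subsingleton.elim y 0, map_zero]

variable {M N M' : Type u} [AddCommGroup M] [Module B M] [AddCommGroup N] [Module B' N]
  [AddCommGroup M'] [Module B' M']

theorem injective_of_isBC [Algebra.FormallySmooth B B'] {δ : B →+ M} (h : IsAlgUniv (algebraMap A B) δ)
    {δ' : B' →+ M'} (h' : IsAlgUniv (algebraMap A B') δ') {f : M →+ N} (hf : IsBC (algebraMap B B') f)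
    (g : N →ₗ[B'] M') (hg : ∀ b, g (f (δ b)) = δ' (algebraMap B B' b)) : Function.Injective g := by
  obtain ⟨e, he⟩ := h.exists_kaehler_equiv
  obtain ⟨e', he'⟩ := h'.exists_kaehler_equiv
  -- the base change of Kähler differentials
  let _ : Module B N := Module.compHom N (algebraMap B B')
  have : IsScalarTower B B' N := IsScalarTower.of_algebraMap_smul fun _ _ => rfl
  let f₀ : M →ₗ[B] N := { f with map_smul' := hf.map_smul }
  have hf₀ : IsBaseChange B' f₀ := (isBC_iff_isBaseChange f₀).1 hf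
  let E : B' ⊗[B] Ω[B⁄A] ≃ₗ[B'] N := (LinearEquiv.baseChange B B' _ _ e).trans hf₀.equiv
  have hE : ∀ b, E (1 ⊗ₜ KaehlerDifferential.D A B b) = f (δ b) := fun b => by
    change hf₀.equiv ((LinearEquiv.baseChange B B' _ _ e) (1 ⊗ₜ KaehlerDifferential.D A B b)) = _
    rw [LinearEquiv.baseChange_tmul, he, IsBaseChange.equiv_tmul, one_smul]
    rfl
  let _ : Module B M' := Module.compHom M' (algebraMap B B')
  have : IsScalarTower B B' M' := IsScalarTower.of_algebraMap_smul fun _ _ => rfl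
  have hcomm : g ∘ₗ E.toLinearMap = e'.toLinearMap ∘ₗ KaehlerDifferential.mapBaseChange A B B' := by
    apply TensorProduct.AlgebraTensorModule.curry_injective
    ext w
    change g (E (1 ⊗ₜ w)) = e' (KaehlerDifferential.mapBaseChange A B B' (1 ⊗ₜ w))
    have hw : w ∈ Submodule.span B (Set.range (KaehlerDifferential.D A B)) := by
      rw [KaehlerDifferential.span_range_derivation]
      trivial
    induction hw using Submodule.span_induction with
    | mem w hw =>
      obtain ⟨b, rfl⟩ := hw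
      rw [hE, hg, KaehlerDifferential.mapBaseChange_tmul, one_smul, KaehlerDifferential.map_D, he']
    | zero => simp
    | add x y _ _ hx hy => rw [TensorProduct.tmul_add, map_add, map_add, map_add, map_add, hx, hy]
    | smul b x _ hx =>
      rw [TensorProduct.tmul_smul, ← algebraMap_smul B' b, map_smul, map_smul, map_smul, map_smul, hx]
  have hinj : Function.Injective (g ∘ₗ E.toLinearMap) := by
    rw [hcomm]
    exact e'.injective.comp injective_mapBaseChange
  intro x y hxy
  obtain ⟨x, rfl⟩ := E.surjective x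
  obtain ⟨y, rfl⟩ := E.surjective y
  rw [hinj hxy]

end Ring

section Scheme

variable {X Y S : Scheme.{u}}

theorem exists_triple (f : X ⟶ Y) (g : Y ⟶ S) (x : X) (O : X.Opens) (hx : x ∈ O) :
    ∃ (U : X.Opens) (V : Y.Opens) (W : S.Opens), IsAffineOpen U ∧ IsAffineOpen V ∧ IsAffineOpen W ∧
      U ≤ O ∧ x ∈ U ∧ U ≤ f ⁻¹ᵁ V ∧ V ≤ g ⁻¹ᵁ W := by
  obtain ⟨W, hW, hxW, -⟩ := exists_isAffineOpen_mem_and_subset (x := g (f x)) (U := ⊤) trivial
  obtain ⟨V, hV, hxV, e⟩ := exists_isAffineOpen_mem_and_subset (x := f x) (U := g ⁻¹ᵁ W) hxW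
  obtain ⟨U, hU, hxU, e'⟩ := exists_isAffineOpen_mem_and_subset (x := x) (U := O ⊓ f ⁻¹ᵁ V) ⟨hx, hxV⟩
  exact ⟨U, V, W, hU, hV, hW, fun y hy => (e' hy).1, hxU, fun y hy => (e' hy).2, e⟩

/-- For a formally smooth `f` the map `f^* Ω_{Y/S} → Ω_{X/S}` is a monomorphism. -/
theorem mono_of_isFormallySmoothHom {g : Y ⟶ S} {h : X ⟶ S} (f : X ⟶ Y) (w : f ≫ g = h)
    (hf : MoreMor.IsFormallySmoothHom f) {ΩY : Y.Modules} {dY : Der g ΩY} (hY : IsUniversal dY)
    {ΩX : X.Modules} {dX : Der h ΩX} (hX : IsUniversal dX)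
    (c : (Scheme.Modules.pullback f).obj ΩY ⟶ ΩX) (hc : IsDiffCompat f dY dX c) : Mono c := by
  have hq : ΩY.IsQuasicoherent := isQuasicoherent_of_isUniversal hY
  refine K584.ConTrans.mono_of_basis c (fun U => ∃ (V : Y.Opens) (W : S.Opens), IsAffineOpen U ∧
    IsAffineOpen V ∧ IsAffineOpen W ∧ U ≤ f ⁻¹ᵁ V ∧ V ≤ g ⁻¹ᵁ W) ?_ ?_
  · intro x O hx
    obtain ⟨U, V, W, hU, hV, hW, hUO, hxU, e, e'⟩ := exists_triple f g x O hx
    exact ⟨U, hUO, hxU, V, W, hU, hV, hW, e, e'⟩
  · rintro U ⟨V, W, hU, hV, hW, e, e'⟩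
    have e'' : U ≤ h ⁻¹ᵁ W := by
      rw [← w]
      exact e.trans (f.preimage_mono e')
    let _ := (g.appLE W V e').hom.toAlgebra
    let _ := (f.appLE V U e).hom.toAlgebra
    let _ := (h.appLE W U e'').hom.toAlgebra
    have : IsScalarTower Γ(S, W) Γ(Y, V) Γ(X, U) := IsScalarTower.of_algebraMap_eq fun s => by
      change h.appLE W U e'' s = f.appLE V U e (g.appLE W V e' s)
      subst w
      rw [← CommRingCat.comp_apply, Scheme.Hom.appLE_comp_appLE]
    have hfs : Algebra.FormallySmooth Γ(Y, V) Γ(X, U) :=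
      Groth.Agent.Flat2H.FSHom.affLocFS_of_isFormallySmoothHom f hf U V hU hV e
    have h1 := isBC_pbSec f ΩY hV hU e
    exact injective_of_isBC (A := Γ(S, W)) (B := Γ(Y, V)) (B' := Γ(X, U)) (isAlgUniv_app hY hV hW e')
      (isAlgUniv_app hX hU hW e'') h1
      { (c.app U).hom with map_smul' := fun r x => Scheme.Modules.Hom.app_smul c r x }
      (fun b => compSec_app hc V U e b)

/-- The differentials of a formally smooth morphism locally of finite type are finite locally free. -/
theorem isFinLocFree_of_isFormallySmoothHom (f : X ⟶ Y) (hf : MoreMor.IsFormallySmoothHom f)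
    [LocallyOfFiniteType f] {Ω' : X.Modules} {d : Der f Ω'} (hd : IsUniversal d) :
    FlatMod.IsFinLocFree Ω' := by
  refine Groth.Agent.Dcoh.PushFLF304.isFinLocFree_of_sections
    (isQuasicoherent_of_isUniversal hd)
    (fun U => ∃ V : Y.Opens, IsAffineOpen V ∧ U ≤ f ⁻¹ᵁ V) ?_ ?_
  · intro x
    obtain ⟨U, V, W, hU, hV, hW, -, hxU, e, -⟩ := exists_triple f (𝟙 Y) x ⊤ trivial
    exact ⟨U, ⟨V, hV, e⟩, hU, hxU⟩
  · rintro U ⟨V, hV, e⟩ hU
    refine ⟨K583.Finite.finite_app hd hU hV e, ?_⟩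
    let _ := (f.appLE V U e).hom.toAlgebra
    have hfs : Algebra.FormallySmooth Γ(Y, V) Γ(X, U) :=
      Groth.Agent.Flat2H.FSHom.affLocFS_of_isFormallySmoothHom f hf U V hU hV e
    obtain ⟨ε, -⟩ := K583.UnivAffine.exists_kaehler_equiv hd hU hV e rfl
    exact Module.Projective.of_equiv ε

end Scheme

end K561.OmegaSmooth
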