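import Groth.Agent.Nrm16.K137.Ideal
import Groth.Agent.OmegaSh.K583.DerFunct
import Groth.Agent.OmegaSh.K583.ConMap
import Groth.Agent.Fixpt.H906.SecTot

/-!
# The map `C_{Z/X} → i^* Ω` induced by a derivation

Existence (`exists_isConormalDiff`), uniqueness (`eq_of_isConormalDiff`) and functoriality.
-/

set_option autoImplicit false
universe u

open CategoryTheory CategoryTheory.Limits AlgebraicGeometry TopologicalSpace Opposite OmegaSh

namespace K561.ConDiff

open K583.DerAffine K583.ConMap

section

variable {Z X : Scheme.{u}} (i : Z ⟶ X) (M : X.Modules)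

theorem pullSect_map {U V : X.Opens} (h : V ≤ U) (m : Γ(M, U)) :
    pullSect i M V (M.presheaf.map (homOfLE h).op m) =
      ((Scheme.Modules.pullback i).obj M).presheaf.map (homOfLE (i.preimage_mono h)).op (pullSect i M U m) :=
  congr($((Scheme.Modules.Hom.mapPresheaf
    ((Scheme.Modules.pullbackPushforwardAdjunction i).unit.app M)).naturality (homOfLE h).op) m)

theorem pullSect_smul (U : X.Opens) (a : Γ(X, U)) (m : Γ(M, U)) :
    pullSect i M U (a • m) = i.app U a • pullSect i M U m :=
  Scheme.Modules.Hom.app_smul ((Scheme.Modules.pullbackPushforwardAdjunction i).unit.app M) a m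

end

variable {Z X Y : Scheme.{u}} (i : Z ⟶ X) {f : X ⟶ Y} {Ω : X.Modules} (d : Der f Ω)

/-- `s ↦ i^*(d s)` as a map of abelian presheaves. -/
noncomputable def preMap : (ClSub.idealMod i.ker).presheaf ⟶
    ((Scheme.Modules.pushforward i).obj ((Scheme.Modules.pullback i).obj Ω)).presheaf where
  app U := AddCommGrpCat.ofHom
    ((pullSect i Ω U.unop).hom.comp ((d.app U.unop).comp (idealSect i.ker U.unop)))
  naturality {U V} h := by
    ext s
    change pullSect i Ω V.unop (d.app V.unop (idealSect i.ker V.unop ((ClSub.idealMod i.ker).presheaf.map h s))) =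
      ((Scheme.Modules.pullback i).obj Ω).presheaf.map (homOfLE (i.preimage_mono h.unop.le)).op
        (pullSect i Ω U.unop (d.app U.unop (idealSect i.ker U.unop s)))
    have e : h = (homOfLE h.unop.le).op := rfl
    rw [← pullSect_map, ← app_map, ← K137.Ideal.idealSect_map]
    rfl

variable [QuasiCompact i]

theorem exists_isConormalDiff : ∃ φ : Omega.conormal i ⟶ (Scheme.Modules.pullback i).obj Ω,
    IsConormalDiff i d φ := by
  obtain ⟨k, hk⟩ := K137.Basic.exists_desc i (M := ClSub.idealMod i.ker)
    (N := (Scheme.Modules.pullback i).obj Ω) (K137.Basic.homMk (preMap i d) (fun U a m => by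
      change pullSect i Ω U (d.app U (idealSect i.ker U (a • m))) =
        i.app U a • pullSect i Ω U (d.app U (idealSect i.ker U m))
      rw [K137.Ideal.idealSect_smul, app_mul, map_add, pullSect_smul, pullSect_smul,
        K137.Ideal.app_idealSect, zero_smul, add_zero]))
  exact ⟨k, fun U s => hk U s⟩

omit [QuasiCompact i] in
theorem eq_of_isConormalDiff {φ φ' : Omega.conormal i ⟶ (Scheme.Modules.pullback i).obj Ω}
    (h : IsConormalDiff i d φ) (h' : IsConormalDiff i d φ') : φ = φ' := by
  apply pull_hom_ext i
  intro U s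
  exact (h U s).trans (h' U s).symm

end K561.ConDiff
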