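import Groth.Agent.OmegaSh.K561.ConDiff

/-!
# Functoriality of conormal maps and conormal differentials along `X → W → V`
-/

set_option autoImplicit false
universe u

open CategoryTheory CategoryTheory.Limits AlgebraicGeometry TopologicalSpace Opposite OmegaSh

namespace K561.ConFunct

open K583.DerAffine K583.ConMap K561.ConDiff

variable {X W V Y : Scheme.{u}} (k : X ⟶ W) (p : W ⟶ V)

/-- `(k ≫ p)^* M ⟶ k^* N` attached to `p^* M ⟶ N`. -/
noncomputable def pull {M : V.Modules} {N : W.Modules} (c : (Scheme.Modules.pullback p).obj M ⟶ N) :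
    (Scheme.Modules.pullback (k ≫ p)).obj M ⟶ (Scheme.Modules.pullback k).obj N :=
  (Scheme.Modules.pullbackComp k p).inv.app M ≫ (Scheme.Modules.pullback k).map c

theorem map_pullSect {M N : W.Modules} (c : M ⟶ N) (U : W.Opens) (m : Γ(M, U)) :
    ((Scheme.Modules.pullback k).map c).app (k ⁻¹ᵁ U) (pullSect k M U m) = pullSect k N U (c.app U m) := by
  have h := (Scheme.Modules.pullbackPushforwardAdjunction k).unit.naturality c
  exact (congr(($(h).app U) m)).symm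

theorem pull_pullSect {M : V.Modules} {N : W.Modules} (c : (Scheme.Modules.pullback p).obj M ⟶ N)
    (U : V.Opens) (m : Γ(M, U)) :
    (pull k p c).app ((k ≫ p) ⁻¹ᵁ U) (pullSect (k ≫ p) M U m) =
      pullSect k N (p ⁻¹ᵁ U) (c.app (p ⁻¹ᵁ U) (pullSect p M U m)) := by
  have h1 := Groth.Agent.Fixpt.H906.SecTot.pbS_comp k p M m
  have h2 := map_pullSect k c (p ⁻¹ᵁ U) (pullSect p M U m)
  rw [← h2]
  exact congrArg (((Scheme.Modules.pullback k).map c).app (k ⁻¹ᵁ (p ⁻¹ᵁ U))) h1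

/-- The map `C_{X/V} ⟶ C_{X/W}` as a map out of the conormal sheaf itself. -/
noncomputable def con (ψ : (Scheme.Modules.pullback (𝟙 X)).obj (Omega.conormal (k ≫ p)) ⟶ Omega.conormal k) :
    Omega.conormal (k ≫ p) ⟶ Omega.conormal k :=
  (Scheme.Modules.pullbackId X).inv.app (Omega.conormal (k ≫ p)) ≫ ψ

theorem con_conormalSect {ψ : (Scheme.Modules.pullback (𝟙 X)).obj (Omega.conormal (k ≫ p)) ⟶ Omega.conormal k}
    (hψ : IsConormalMap k (k ≫ p) p (𝟙 X) ψ) (U : V.Opens) (s : Γ(ClSub.idealMod (k ≫ p).ker, U))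
    (t : Γ(ClSub.idealMod k.ker, p ⁻¹ᵁ U))
    (h : idealSect k.ker (p ⁻¹ᵁ U) t = p.app U (idealSect (k ≫ p).ker U s)) :
    (con k p ψ).app ((k ≫ p) ⁻¹ᵁ U) (conormalSect (k ≫ p) U s) = conormalSect k (p ⁻¹ᵁ U) t := by
  have h1 := hψ.2 U s t h ((k ≫ p) ⁻¹ᵁ U) le_rfl le_rfl
  have e3 : (homOfLE (le_refl ((k ≫ p) ⁻¹ᵁ U))).op = 𝟙 _ := rfl
  have h2 : (con k p ψ).app ((k ≫ p) ⁻¹ᵁ U) (conormalSect (k ≫ p) U s) =
      ψ.app ((k ≫ p) ⁻¹ᵁ U) (pullSect (𝟙 X) (Omega.conormal (k ≫ p)) ((k ≫ p) ⁻¹ᵁ U) (conormalSect (k ≫ p) U s)) := by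
    rw [← K137.Basic.id_inv]
    rfl
  rw [h2]
  have h3 : ∀ (A : X.Modules) (O : X.Opens) (y : Γ(A, O)), A.presheaf.map (homOfLE (le_refl O)).op y = y := by
    intro A O y
    have : (homOfLE (le_refl O)).op = 𝟙 _ := rfl
    rw [this, CategoryTheory.Functor.map_id]
    rfl
  exact (h3 _ _ _).symm.trans (h1.trans (h3 _ _ _))

variable [QuasiCompact k] [QuasiCompact (k ≫ p)]

theorem exists_idealSect (U : V.Opens) (s : Γ(ClSub.idealMod (k ≫ p).ker, U)) :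
    ∃ t : Γ(ClSub.idealMod k.ker, p ⁻¹ᵁ U),
      idealSect k.ker (p ⁻¹ᵁ U) t = p.app U (idealSect (k ≫ p).ker U s) := by
  have h := K137.Ideal.app_idealSect (k ≫ p) U s
  rw [Scheme.Hom.comp_app] at h
  exact (K137.Ideal.app_eq_zero_iff k (p ⁻¹ᵁ U) _).mp h

variable {g : V ⟶ Y} {h : W ⟶ Y} {ΩV : V.Modules} {dV : Der g ΩV} {ΩW : W.Modules} {dW : Der h ΩW}

/-- The square `C_{X/V} → C_{X/W}`, `(k ≫ p)^* Ω_V → k^* Ω_W`. -/
theorem con_comp {ψ : (Scheme.Modules.pullback (𝟙 X)).obj (Omega.conormal (k ≫ p)) ⟶ Omega.conormal k}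
    (hψ : IsConormalMap k (k ≫ p) p (𝟙 X) ψ)
    {c : (Scheme.Modules.pullback p).obj ΩV ⟶ ΩW} (hc : IsDiffCompat p dV dW c)
    {φV : Omega.conormal (k ≫ p) ⟶ (Scheme.Modules.pullback (k ≫ p)).obj ΩV}
    (hφV : IsConormalDiff (k ≫ p) dV φV)
    {φW : Omega.conormal k ⟶ (Scheme.Modules.pullback k).obj ΩW} (hφW : IsConormalDiff k dW φW) :
    con k p ψ ≫ φW = φV ≫ pull k p c := by
  apply pull_hom_ext (k ≫ p)
  intro U s
  obtain ⟨t, ht⟩ := exists_idealSect k p U s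
  change φW.app ((k ≫ p) ⁻¹ᵁ U) ((con k p ψ).app ((k ≫ p) ⁻¹ᵁ U) (conormalSect (k ≫ p) U s)) =
    (pull k p c).app ((k ≫ p) ⁻¹ᵁ U) (φV.app ((k ≫ p) ⁻¹ᵁ U) (conormalSect (k ≫ p) U s))
  rw [con_conormalSect k p hψ U s t ht, hφV, pull_pullSect, hc]
  refine (hφW (p ⁻¹ᵁ U) t).trans ?_
  rw [ht]

omit [QuasiCompact k] [QuasiCompact (k ≫ p)] in
/-- `C_{X/W} → k^* Ω_{W/Y} → k^* Ω_{W/V}`. -/
theorem conDiff_comp {ΩP : W.Modules} {dP : Der p ΩP}
    {c : (Scheme.Modules.pullback (𝟙 W)).obj ΩW ⟶ ΩP} (hc : IsDiffCompat (𝟙 W) dW dP c)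
    {φW : Omega.conormal k ⟶ (Scheme.Modules.pullback k).obj ΩW} (hφW : IsConormalDiff k dW φW)
    {φP : Omega.conormal k ⟶ (Scheme.Modules.pullback k).obj ΩP} (hφP : IsConormalDiff k dP φP) :
    φW ≫ (Scheme.Modules.pullback k).map ((Scheme.Modules.pullbackId W).inv.app ΩW ≫ c) = φP := by
  refine eq_of_isConormalDiff k dP ?_ hφP
  intro U s
  change ((Scheme.Modules.pullback k).map ((Scheme.Modules.pullbackId W).inv.app ΩW ≫ c)).app (k ⁻¹ᵁ U)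
    (φW.app (k ⁻¹ᵁ U) (conormalSect k U s)) = _
  rw [hφW]
  refine (map_pullSect k (M := ΩW) (N := ΩP) ((Scheme.Modules.pullbackId W).inv.app ΩW ≫ c) U _).trans ?_
  congr 1
  change c.app U (((Scheme.Modules.pullbackId W).inv.app ΩW).app U (dW.app U (idealSect k.ker U s))) = _
  rw [K137.Basic.id_inv]
  refine (hc U (idealSect k.ker U s)).trans ?_
  rfl

end K561.ConFunct
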